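import Groth.Agent.DecSec.QuotDesc
import Groth.Agent.ASp.FppfGlue
import Groth.Agent.ASp.Affine
import Groth.Agent.ASp.LocP
import Groth.Agent.ASp.Sheaf
import Groth.Agent.ASp.Residual
import Groth.Agent.ASp.Smooth
import Groth.Agent.ASt.Fib
import Groth.Agent.RepOne.Restricted
import Groth.Prelude.Def_StCoarse
/-!
Categorical moduli spaces are detected on flat affine base changes.
-/

set_option autoImplicit false
set_option backward.isDefEq.respectTransparency false
set_option backward.isDefEq.respectTransparency.types false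
set_option linter.style.haveILetI false
set_option linter.unusedSectionVars false

universe v w u

open CategoryTheory CategoryTheory.Limits AlgebraicGeometry Opposite

namespace Groth.Agent.UnifModLib

open _root_.AlgSp _root_.AlgSt Groth.Agent.ASp Groth.Agent.DecSec.QuotSch

variable {S : Scheme.{u}} {𝒳 : AlgSt.Cat S} {Y : Sp S} (f : 𝒳 ⥤ᵇ AlgSt.ofSp Y)

/-- Isomorphic functors into the category of a sheaf are equal. -/
theorem ofSp_eq_of_iso' {𝒜 : BasedCategory.{v, w} (Over S)} {M : AlgSp.Sp S} {F F' : 𝒜 ⥤ᵇ AlgSt.ofSp M}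
    (α : F ≅ F') : F = F' := ofSp_ext fun x => by
  have h : (AlgSt.ofSp M).p.IsHomLift (𝟙 (𝒜.p.obj x)) (α.hom.toNatTrans.app x) :=
    BasedNatTrans.isHomLift α.hom rfl
  refine obj_ext ((F.w_obj x).trans (F'.w_obj x).symm) ?_
  have h1 := Groth.Agent.ASt.map_of_isHomLift_id (𝒳 := AlgSt.ofSp M) (p := (AlgSt.ofSp M).p) (R := 𝒜.p.obj x) (α.hom.toNatTrans.app x)
  change (α.hom.toNatTrans.app x).hom = _ at h1
  rw [← sy_map (α.hom.toNatTrans.app x), h1]

/-- The map of sheaves given by the image of an object. -/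
noncomputable def fsec (x : 𝒳.obj) : (yon S).obj (𝒳.p.obj x) ⟶ Y :=
  (yon S).map (eqToHom (f.w_obj x).symm) ≫ sy (f.obj x)

theorem fsec_nat {x y : 𝒳.obj} (m : x ⟶ y) : (yon S).map (𝒳.p.map m) ≫ fsec f y = fsec f x := by
  have h := Groth.Agent.ASt.map_w f m
  change (f.map m).hom = _ at h
  rw [fsec, fsec, ← sy_map (f.map m), h]
  simp

/-- A natural family of maps to `N` on the objects of a base change. -/
structure Assign {M : Sp S} (g : M ⟶ Y) (N : Sp S) where
  app : ∀ (x : 𝒳.obj) (p : (yon S).obj (𝒳.p.obj x) ⟶ M), p ≫ g = fsec f x → ((yon S).obj (𝒳.p.obj x) ⟶ N)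
  nat : ∀ {x y : 𝒳.obj} (m : x ⟶ y) (p : (yon S).obj (𝒳.p.obj x) ⟶ M) (hp : p ≫ g = fsec f x)
    (q : (yon S).obj (𝒳.p.obj y) ⟶ M) (hq : q ≫ g = fsec f y), (yon S).map (𝒳.p.map m) ≫ q = p →
      (yon S).map (𝒳.p.map m) ≫ app y q hq = app x p hp

variable {f}

/-- A map inducing the natural family. -/
def Good {M N : Sp S} {g : M ⟶ Y} (ψ : Assign f g N) (h : M ⟶ N) : Prop :=
  ∀ (x : 𝒳.obj) (p : (yon S).obj (𝒳.p.obj x) ⟶ M) (hp : p ≫ g = fsec f x), p ≫ h = ψ.app x p hp

/-- The universal property of a categorical moduli space, on natural families. -/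
def HasUniv {M : Sp S} (g : M ⟶ Y) : Prop :=
  ∀ (N : Sp S), IsAlgSpace N → ∀ ψ : Assign f g N, ∃! h : M ⟶ N, Good ψ h

/-- Restriction of a natural family along a map. -/
def Assign.pull {M M' N : Sp S} {g : M ⟶ Y} (ψ : Assign f g N) (k : M' ⟶ M) : Assign f (k ≫ g) N where
  app x p hp := ψ.app x (p ≫ k) ((Category.assoc _ _ _).trans hp)
  nat m p hp q hq e := ψ.nat m _ _ _ _ (by rw [← Category.assoc, e])

theorem Good.pull {M M' N : Sp S} {g : M ⟶ Y} {ψ : Assign f g N} {h : M ⟶ N} (hh : Good ψ h) (k : M' ⟶ M) :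
    Good (ψ.pull k) (k ≫ h) := fun x p hp => by
  rw [← Category.assoc]
  exact hh x (p ≫ k) _

theorem good_congr {M M' N : Sp S} {g : M ⟶ Y} {ψ : Assign f g N} {k k' : M' ⟶ M} (e : k = k') {h : M' ⟶ N}
    (hh : Good (ψ.pull k) h) : Good (ψ.pull k') h := by
  subst e; exact hh

theorem good_pull_pull {M M' M'' N : Sp S} {g : M ⟶ Y} {ψ : Assign f g N} {k : M' ⟶ M} {k' : M'' ⟶ M'}
    {h : M'' ⟶ N} (hh : Good ((ψ.pull k).pull k') h) : Good (ψ.pull (k' ≫ k)) h := fun x p hp => by
  refine (hh x p ((congrArg (p ≫ ·) (Category.assoc k' k g).symm).trans hp)).trans ?_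
  simp [Assign.pull]

/-- An identity of the base acts trivially. -/
theorem map_eqToHom_self {T : Over S} {N : Sp S} (e : T = T) (a : (yon S).obj T ⟶ N) :
    (yon S).map (eqToHom e) ≫ a = a := by
  rw [eqToHom_refl, CategoryTheory.Functor.map_id, Category.id_comp]

variable [hfib : FibCat.IsFibGrpd 𝒳.p]

omit hfib in
theorem mkFp_aux {M : Sp S} (g : M ⟶ Y) (x : 𝒳.obj) (p : (yon S).obj (𝒳.p.obj x) ⟶ M) (hp : p ≫ g = fsec f x) :
    (AlgSt.ofSpMap g).obj (⟨𝒳.p.obj x, (J S).uliftYonedaEquiv.{u+1} p⟩ : (AlgSt.ofSp M).obj) = f.obj x := by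
  refine obj_ext (f.w_obj x).symm ?_
  change (J S).uliftYonedaEquiv.{u+1}.symm (g.hom.app _ ((J S).uliftYonedaEquiv.{u+1} p)) = fsec f x
  rw [← GrothendieckTopology.uliftYonedaEquiv_comp, Equiv.symm_apply_apply, hp]

/-- The object of the base change given by an object and a point. -/
noncomputable def mkFp {M : Sp S} (g : M ⟶ Y) (x : 𝒳.obj) (p : (yon S).obj (𝒳.p.obj x) ⟶ M)
    (hp : p ≫ g = fsec f x) : (FibCat.fp (AlgSt.ofSpMap g) f).obj :=
  ⟨{ fst := (⟨𝒳.p.obj x, (J S).uliftYonedaEquiv.{u+1} p⟩ : (AlgSt.ofSp M).obj)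
     snd := x
     iso := eqToIso (mkFp_aux g x p hp) },
   Groth.Agent.ASt.isHomLift_id_of_map (𝒳 := AlgSt.ofSp Y) (p := (AlgSt.ofSp Y).p) (R := 𝒳.p.obj x) _ rfl
    (e := congrArg (AlgSt.ofSp Y).p.obj (mkFp_aux g x p hp)) (eqToHom_map (AlgSt.ofSp Y).p (mkFp_aux g x p hp))⟩

omit hfib in
/-- The functor to an algebraic space given by a map has the expected sections. -/
theorem sy_ofSpMap' {M N : Sp S} (h : M ⟶ N) (a : (AlgSt.ofSp M).obj) :
    sy ((AlgSt.ofSpMap h).obj a) = sy a ≫ h := by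
  apply (J S).uliftYonedaEquiv.{u+1}.injective
  rw [GrothendieckTopology.uliftYonedaEquiv_comp]
  exact (Equiv.apply_symm_apply _ _).trans (congrArg (h.hom.app (op a.base)) (Equiv.apply_symm_apply _ _).symm)

/-- The base of the second component of an object of the base change. -/
theorem snd_base {M : Sp S} (g : M ⟶ Y) (z : (FibCat.fp (AlgSt.ofSpMap g) f).obj) :
    𝒳.p.obj z.obj.snd = z.obj.fst.base :=
  (FibCat.fpSnd (AlgSt.ofSpMap g) f).w_obj z

theorem fp_cond {M : Sp S} (g : M ⟶ Y) (z : (FibCat.fp (AlgSt.ofSpMap g) f).obj) :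
    ((yon S).map (eqToHom (snd_base g z)) ≫ sy z.obj.fst) ≫ g = fsec f z.obj.snd := by
  have hz : (AlgSt.ofSp Y).p.IsHomLift (𝟙 ((AlgSt.ofSp M).p.obj z.obj.fst)) z.obj.iso.hom := z.property
  have h := sy_map z.obj.iso.hom
  have hb := Groth.Agent.ASt.map_of_isHomLift_id (𝒳 := AlgSt.ofSp Y) (p := (AlgSt.ofSp Y).p)
    (R := (AlgSt.ofSp M).p.obj z.obj.fst) z.obj.iso.hom
  change z.obj.iso.hom.hom = _ at hb
  rw [hb] at h
  rw [Category.assoc, ← sy_ofSpMap', fsec, ← h, ← Functor.map_comp_assoc]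
  congr 2
  simp

/-- A natural family gives a functor on the base change. -/
noncomputable def Assign.toFun {M N : Sp S} {g : M ⟶ Y} (ψ : Assign f g N) :
    FibCat.fp (AlgSt.ofSpMap g) f ⥤ᵇ AlgSt.ofSp N where
  toFunctor :=
    { obj := fun z => ⟨z.obj.fst.base, (J S).uliftYonedaEquiv.{u+1}
        ((yon S).map (eqToHom (snd_base g z).symm) ≫ ψ.app z.obj.snd _ (fp_cond g z))⟩
      map := fun {z z'} m => ⟨m.hom.fst.hom, (J S).uliftYonedaEquiv.{u+1}.symm.injective (by
        rw [← GrothendieckTopology.uliftYonedaEquiv_symm_naturality_left, Equiv.symm_apply_apply,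
          Equiv.symm_apply_apply]
        have h2 := Groth.Agent.ASt.map_w (FibCat.fpSnd (AlgSt.ofSpMap g) f) m
        change 𝒳.p.map m.hom.snd = eqToHom (snd_base g z) ≫ m.hom.fst.hom ≫ eqToHom (snd_base g z').symm at h2
        have h3 := ψ.nat m.hom.snd _ (fp_cond g z) _ (fp_cond g z') (by
          rw [h2, ← Functor.map_comp_assoc, ← sy_map m.hom.fst, ← Functor.map_comp_assoc]
          simp)
        rw [← h3, h2, ← Functor.map_comp_assoc, ← Functor.map_comp_assoc]
        simp)⟩ }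
  w := rfl

theorem sy_toFun {M N : Sp S} {g : M ⟶ Y} (ψ : Assign f g N) (z : (FibCat.fp (AlgSt.ofSpMap g) f).obj) :
    sy (ψ.toFun.obj z) = (yon S).map (eqToHom (snd_base g z).symm) ≫ ψ.app z.obj.snd _ (fp_cond g z) :=
  Equiv.symm_apply_apply _ _

theorem Assign.app_congr {M N : Sp S} {g : M ⟶ Y} (ψ : Assign f g N) (x : 𝒳.obj)
    {p p' : (yon S).obj (𝒳.p.obj x) ⟶ M} (e : p = p') (hp : p ≫ g = fsec f x) :
    ψ.app x p hp = ψ.app x p' (e ▸ hp) := by
  subst e; rfl

theorem comp_fpFst_eq_iff {M N : Sp S} {g : M ⟶ Y} (ψ : Assign f g N) (h : M ⟶ N) :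
    BasedFunctor.comp (FibCat.fpFst (AlgSt.ofSpMap g) f) (AlgSt.ofSpMap h) = ψ.toFun ↔ Good ψ h := by
  constructor
  · intro e x p hp
    let z := mkFp g x p hp
    have e1 : (AlgSt.ofSpMap h).obj z.obj.fst = ψ.toFun.obj z :=
      congrArg (fun F : FibCat.fp (AlgSt.ofSpMap g) f ⥤ᵇ AlgSt.ofSp N => F.obj z) e
    have e2 : ∀ {a b : (AlgSt.ofSp N).obj} (hab : a = b),
        sy a = (yon S).map (eqToHom (congrArg (fun c => c.base) hab)) ≫ sy b := by
      rintro a _ rfl; simp
    have e3 := e2 e1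
    rw [sy_ofSpMap', sy_toFun] at e3
    have hsy : sy z.obj.fst = p := Equiv.symm_apply_apply _ _
    refine (congrArg (· ≫ h) hsy.symm).trans (e3.trans ?_)
    rw [← Functor.map_comp_assoc, eqToHom_trans]
    refine (map_eqToHom_self _ _).trans ?_
    exact ψ.app_congr x ((congrArg (_ ≫ ·) hsy).trans (map_eqToHom_self _ _)) _
  · intro hh
    refine ofSp_ext fun z => obj_ext rfl ?_
    rw [eqToHom_refl, CategoryTheory.Functor.map_id, Category.id_comp, sy_toFun, ← hh]
    change sy ((AlgSt.ofSpMap h).obj z.obj.fst) = _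
    rw [sy_ofSpMap', ← Category.assoc, ← Functor.map_comp_assoc, eqToHom_trans, eqToHom_refl,
      CategoryTheory.Functor.map_id, Category.id_comp]

/-- A categorical moduli space has the universal property on natural families. -/
theorem hasUniv_of_isCatModuli {M : Sp S} {g : M ⟶ Y}
    (hc : AlgSt.IsCatModuli (FibCat.fpFst (AlgSt.ofSpMap g) f)) : HasUniv (f := f) g := by
  intro N hN ψ
  obtain ⟨h, ⟨α⟩, hu⟩ := hc.2 N hN ψ.toFun
  exact ⟨h, (comp_fpFst_eq_iff ψ h).1 (ofSp_eq_of_iso' α),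
    fun h' hh' => hu h' ⟨eqToIso ((comp_fpFst_eq_iff ψ h').2 hh')⟩⟩

/-- The natural family of a functor on the base change. -/
noncomputable def ofFun {M N : Sp S} {g : M ⟶ Y} (φ : FibCat.fp (AlgSt.ofSpMap g) f ⥤ᵇ AlgSt.ofSp N) :
    Assign f g N where
  app x p hp := (yon S).map (eqToHom (φ.w_obj (mkFp g x p hp)).symm) ≫ sy (φ.obj (mkFp g x p hp))
  nat {x y} m p hp q hq e := by
    let mm : mkFp g x p hp ⟶ mkFp g y q hq :=
      Groth.Agent.ASt.fpHomMk (m := mkFp g x p hp) (n := mkFp g y q hq)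
        (⟨𝒳.p.map m, (J S).uliftYonedaEquiv.{u+1}.symm.injective (by
          rw [← GrothendieckTopology.uliftYonedaEquiv_symm_naturality_left]
          change _ ≫ (J S).uliftYonedaEquiv.{u+1}.symm ((J S).uliftYonedaEquiv.{u+1} q) =
            (J S).uliftYonedaEquiv.{u+1}.symm ((J S).uliftYonedaEquiv.{u+1} p)
          rw [Equiv.symm_apply_apply, Equiv.symm_apply_apply]
          exact e)⟩) m
        ((AlgSt.ofSp Y).p.map_injective (by
          rw [Functor.map_comp, Functor.map_comp, Groth.Agent.ASt.map_w f m]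
          simp only [mkFp, eqToIso.hom, eqToHom_map]
          change 𝒳.p.map m ≫ _ = _
          simp))
    have h := Groth.Agent.ASt.map_w φ mm
    change (φ.map mm).hom = eqToHom _ ≫ 𝒳.p.map m ≫ eqToHom _ at h
    rw [← sy_map (φ.map mm), h]
    simp

omit hfib in
theorem exists_iso_eq {M N : Sp S} {g : M ⟶ Y} (φ : FibCat.fp (AlgSt.ofSpMap g) f ⥤ᵇ AlgSt.ofSp N)
    {z z' : (FibCat.fp (AlgSt.ofSpMap g) f).obj} (n : z ⟶ z') (e : z'.obj.fst.base = z.obj.fst.base)
    (hn : n.hom.fst.hom = eqToHom e.symm) :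
    (yon S).map (eqToHom ((φ.w_obj z).trans (e.symm.trans (φ.w_obj z').symm))) ≫ sy (φ.obj z') = sy (φ.obj z) := by
  have h := Groth.Agent.ASt.map_w φ n
  change (φ.map n).hom = eqToHom _ ≫ n.hom.fst.hom ≫ eqToHom _ at h
  rw [hn] at h
  rw [← sy_map (φ.map n), h]
  simp

theorem toFun_ofFun {M N : Sp S} {g : M ⟶ Y} (φ : FibCat.fp (AlgSt.ofSpMap g) f ⥤ᵇ AlgSt.ofSp N) :
    (ofFun φ).toFun = φ := by
  refine ofSp_ext fun z => obj_ext (φ.w_obj z).symm ?_
  rw [sy_toFun]
  let z' := mkFp g z.obj.snd _ (fp_cond g z)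
  have hz : (AlgSt.ofSp Y).p.IsHomLift (𝟙 ((AlgSt.ofSp M).p.obj z.obj.fst)) z.obj.iso.hom := z.property
  have hiso := Groth.Agent.ASt.map_of_isHomLift_id (𝒳 := AlgSt.ofSp Y) (p := (AlgSt.ofSp Y).p)
    (R := (AlgSt.ofSp M).p.obj z.obj.fst) z.obj.iso.hom
  let n : z ⟶ z' :=
    Groth.Agent.ASt.fpHomMk (m := z) (n := z')
      (⟨eqToHom (snd_base g z).symm, (J S).uliftYonedaEquiv.{u+1}.symm.injective (by
        rw [← GrothendieckTopology.uliftYonedaEquiv_symm_naturality_left]
        change _ ≫ (J S).uliftYonedaEquiv.{u+1}.symm ((J S).uliftYonedaEquiv.{u+1} _) = sy z.obj.fst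
        rw [Equiv.symm_apply_apply, ← Functor.map_comp_assoc, eqToHom_trans, eqToHom_refl,
          CategoryTheory.Functor.map_id, Category.id_comp])⟩)
      (𝟙 z.obj.snd)
      ((AlgSt.ofSp Y).p.map_injective (by
        refine (Functor.map_comp _ _ _).trans (Eq.trans ?_ (Functor.map_comp _ _ _).symm)
        refine Eq.trans ?_ (congrArg₂ (· ≫ ·) hiso.symm (Groth.Agent.ASt.map_w f (𝟙 z.obj.snd)).symm)
        refine (congrArg₂ (· ≫ ·) rfl (eqToHom_map (AlgSt.ofSp Y).p (mkFp_aux g z.obj.snd _ (fp_cond g z)))).trans ?_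
        simp only [CategoryTheory.Functor.map_id, Category.id_comp, eqToHom_trans]
        change eqToHom (snd_base g z).symm ≫ eqToHom _ = eqToHom _
        exact eqToHom_trans _ _))
  have h2 := exists_iso_eq φ n (snd_base g z) rfl
  change (yon S).map (eqToHom (snd_base g z).symm) ≫ (yon S).map (eqToHom (φ.w_obj z').symm) ≫ sy (φ.obj z') = _
  rw [← h2, ← Functor.map_comp_assoc, ← Functor.map_comp_assoc, eqToHom_trans, eqToHom_trans]

/-- The universal property on natural families gives a categorical moduli space. -/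
theorem isCatModuli_of_hasUniv {M : Sp S} (hM : IsAlgSpace M) {g : M ⟶ Y} (hu : HasUniv (f := f) g) :
    AlgSt.IsCatModuli (FibCat.fpFst (AlgSt.ofSpMap g) f) := by
  refine ⟨hM, fun N hN φ => ?_⟩
  obtain ⟨h, hh, huniq⟩ := hu N hN (ofFun φ)
  refine ⟨h, ⟨eqToIso (((comp_fpFst_eq_iff _ h).2 hh).trans (toFun_ofFun φ))⟩, fun h' ⟨α⟩ => huniq h' ?_⟩
  exact (comp_fpFst_eq_iff _ h').1 ((ofSp_eq_of_iso' α).trans (toFun_ofFun φ).symm)

/-- The natural family on the identity given by a functor on the stack. -/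
noncomputable def ofFunId {N : Sp S} (φ : 𝒳 ⥤ᵇ AlgSt.ofSp N) : Assign f (𝟙 Y) N where
  app x _ _ := fsec φ x
  nat m _ _ _ _ _ := fsec_nat φ m

/-- The universal property for the identity gives a categorical moduli space. -/
theorem isCatModuli_self (hY : IsAlgSpace Y) (hu : HasUniv (f := f) (𝟙 Y)) : AlgSt.IsCatModuli f := by
  refine ⟨hY, fun N hN φ => ?_⟩
  obtain ⟨h, hh, huniq⟩ := hu N hN (ofFunId φ)
  have key : ∀ h : Y ⟶ N, BasedFunctor.comp f (AlgSt.ofSpMap h) = φ ↔ Good (ofFunId (f := f) φ) h := by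
    intro h
    constructor
    · rintro rfl x p hp
      rw [Category.comp_id] at hp
      subst hp
      change fsec f x ≫ h = (yon S).map (eqToHom _) ≫ sy ((AlgSt.ofSpMap h).obj (f.obj x))
      rw [sy_ofSpMap', fsec, Category.assoc]
    · intro hg
      refine ofSp_ext fun x => obj_ext ((f.w_obj x).trans (φ.w_obj x).symm) ?_
      change sy ((AlgSt.ofSpMap h).obj (f.obj x)) = _
      have := hg x (fsec f x) (Category.comp_id _)
      change fsec f x ≫ h = fsec φ x at this
      rw [fsec, fsec, Category.assoc] at this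
      rw [sy_ofSpMap', ← cancel_epi ((yon S).map (eqToHom (f.w_obj x).symm)), this, ← Functor.map_comp_assoc,
        eqToHom_trans]
  exact ⟨h, ⟨eqToIso ((key h).2 hh)⟩, fun h' ⟨α⟩ => huniq h' ((key h').1 (ofSp_eq_of_iso' α))⟩

/-- The universal property passes from affine schemes to schemes. -/
theorem hasUniv_scheme {W : Over S} (g : (yon S).obj W ⟶ Y)
    (haff : ∀ (W' : Over S) (k : W' ⟶ W), IsAffine W'.left → IsOpenImmersion k.left →
      HasUniv (f := f) ((yon S).map k ≫ g)) : HasUniv (f := f) g := by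
  intro N hN ψ
  let U : W.left.affineCover.I₀ → Over S := fun i => Over.mk (W.left.affineCover.f i ≫ W.hom)
  let c : ∀ i, U i ⟶ W := fun i => Over.homMk (W.left.affineCover.f i) rfl
  have hc : ∀ i, IsOpenImmersion (c i).left := fun i => inferInstanceAs (IsOpenImmersion (W.left.affineCover.f i))
  have hfl : ∀ i, Flat (c i).left := fun i => by haveI := hc i; infer_instance
  have hfp : ∀ i, LocallyOfFinitePresentation (c i).left := fun i => by haveI := hc i; infer_instance
  have hs : ∀ t : ↥W.left, ∃ i, t ∈ Set.range (c i).left := fun t =>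
    ⟨W.left.affineCover.idx t, W.left.affineCover.covers t⟩
  choose hi hgood huniq using fun i =>
    haff (U i) (c i) (inferInstanceAs (IsAffine (W.left.affineCover.X i))) (hc i) N hN (ψ.pull ((yon S).map (c i)))
  obtain ⟨h, hh, -⟩ := existsUnique_glue hfl hfp hs hi (fun i j V gi gj e => by
    let V' : Over S := pullback (c i) (c j)
    let l : V ⟶ V' := pullback.lift gi gj e
    have hl1 : l ≫ pullback.fst (c i) (c j) = gi := pullback.lift_fst _ _ _
    have hl2 : l ≫ pullback.snd (c i) (c j) = gj := pullback.lift_snd _ _ _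
    rw [← hl1, ← hl2, Functor.map_comp, Functor.map_comp, Category.assoc, Category.assoc]
    congr 1
    refine hom_ext_affineCover fun a => ?_
    let ι : Over.mk (V'.left.affineCover.f a ≫ V'.hom) ⟶ V' := Over.homMk (V'.left.affineCover.f a) rfl
    have hopen : IsOpenImmersion (ι ≫ pullback.fst (c i) (c j) ≫ c i).left := by
      haveI : IsOpenImmersion (c j).left := hc j
      haveI : IsOpenImmersion (c i).left := hc i
      haveI : IsOpenImmersion ι.left := inferInstanceAs (IsOpenImmersion (V'.left.affineCover.f a))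
      haveI : IsOpenImmersion (pullback.fst (c i) (c j)).left :=
        MorphismProperty.of_isPullback (isPullback_left (IsPullback.of_hasPullback (c i) (c j))).flip (hc j)
      simp only [Over.comp_left]
      infer_instance
    have hK := (haff _ (ι ≫ pullback.fst (c i) (c j) ≫ c i)
      (inferInstanceAs (IsAffine (V'.left.affineCover.X a))) hopen N hN (ψ.pull _))
    have e1 : Good (ψ.pull ((yon S).map (ι ≫ pullback.fst (c i) (c j) ≫ c i)))
        ((yon S).map ι ≫ (yon S).map (pullback.fst (c i) (c j)) ≫ hi i) := by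
      have e0 := good_congr (k' := (yon S).map (ι ≫ pullback.fst (c i) (c j) ≫ c i)) (by simp)
        (good_pull_pull ((hgood i).pull ((yon S).map ι ≫ (yon S).map (pullback.fst (c i) (c j)))))
      simpa only [Category.assoc] using e0
    have e2 : Good (ψ.pull ((yon S).map (ι ≫ pullback.fst (c i) (c j) ≫ c i)))
        ((yon S).map ι ≫ (yon S).map (pullback.snd (c i) (c j)) ≫ hi j) := by
      have e0 := good_congr (k' := (yon S).map (ι ≫ pullback.fst (c i) (c j) ≫ c i))
        (by rw [pullback.condition]; simp)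
        (good_pull_pull ((hgood j).pull ((yon S).map ι ≫ (yon S).map (pullback.snd (c i) (c j)))))
      simpa only [Category.assoc] using e0
    exact hK.unique e1 e2)
  refine ⟨h, fun x p hp => ?_, fun h' hh' => hom_ext_fppf hfl hfp hs fun i => ?_⟩
  · obtain ⟨p₀, rfl⟩ := (yon S).map_surjective p
    let Vi : W.left.affineCover.I₀ → Over S := fun i => pullback p₀ (c i)
    have hVo : ∀ i, IsOpenImmersion (pullback.fst p₀ (c i)).left := fun i => by
      exact MorphismProperty.of_isPullback (isPullback_left (IsPullback.of_hasPullback p₀ (c i))).flip (hc i)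
    refine hom_ext_fppf (c := fun i => pullback.fst p₀ (c i))
      (fun i => by haveI := hVo i; infer_instance) (fun i => by haveI := hVo i; infer_instance)
      (fun t => ?_) fun i => ?_
    · obtain ⟨i, a, ha⟩ := hs (p₀.left t)
      obtain ⟨b, hb, -⟩ := Scheme.exists_preimage_of_isPullback
        (isPullback_left (IsPullback.of_hasPullback p₀ (c i))) t a ha.symm
      exact ⟨i, b, hb⟩
    · obtain ⟨x', m, hx', hm⟩ := Groth.Agent.RepOne.exists_lift_map ‹_› x (pullback.fst p₀ (c i))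
      let q : 𝒳.p.obj x' ⟶ U i := eqToHom hx' ≫ pullback.snd p₀ (c i)
      have hq : (yon S).map (𝒳.p.map m) ≫ (yon S).map p₀ = (yon S).map q ≫ (yon S).map (c i) := by
        rw [← Functor.map_comp, ← Functor.map_comp, hm, Category.assoc, pullback.condition, ← Category.assoc]
      have hp' : ((yon S).map q ≫ (yon S).map (c i)) ≫ g = fsec f x' := by
        rw [← hq, Category.assoc, hp, fsec_nat]
      have h1 := hgood i x' ((yon S).map q) (by rw [← Category.assoc]; exact hp')
      have h2 := ψ.nat m _ hp' _ hp hq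
      have key : (yon S).map (𝒳.p.map m) ≫ (yon S).map p₀ ≫ h =
          (yon S).map (𝒳.p.map m) ≫ ψ.app x ((yon S).map p₀) hp := by
        rw [h2, ← Category.assoc, hq, Category.assoc, hh i]
        exact h1
      rw [hm, Functor.map_comp, Category.assoc, Category.assoc, cancel_epi] at key
      exact key
  · rw [hh i]
    exact huniq i _ (hh'.pull _)

set_option maxHeartbeats 1000000 in
/-- The universal property holds for algebraic spaces flat over the target. -/
theorem hasUniv_of_flat (haff : ∀ (W : Over S), IsAffine W.left → ∀ g : (yon S).obj W ⟶ Y, LocP @Flat g →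
    HasUniv (f := f) g) {M : Sp S} (hM : IsAlgSpace M) (g : M ⟶ Y) (hg : LocP @Flat g) : HasUniv (f := f) g := by
  obtain ⟨U, u, hue, hus⟩ := hM.atlas
  have hflat : ∀ {W W' : Over S} (k : W' ⟶ W) (a : (yon S).obj W ⟶ M), Flat k.left →
      LocP @Flat a → HasUniv (f := f) ((yon S).map k ≫ a ≫ g) := by
    intro W W' k a hk ha
    refine hasUniv_scheme _ fun W'' k' h1 h2 => ?_
    refine haff W'' h1 _ (locP_comp (IsAlgSpace.yon_obj W') (locP_of_repWith (repWith_yon_map ?_))
      (locP_comp (IsAlgSpace.yon_obj W) (locP_of_repWith (repWith_yon_map hk)) (locP_comp hM ha hg)))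
    haveI := h2
    infer_instance
  have hu : LocP @Flat u :=
    locP_of_repWith (repWith_mono (fun _ _ m (hm : Etale m) => inferInstanceAs (Flat m)) hue)
  intro N hN ψ
  have hU := hflat (𝟙 U) u inferInstance hu
  rw [CategoryTheory.Functor.map_id, Category.id_comp] at hU
  obtain ⟨hU', hgoodU, huniU⟩ := hU N hN (ψ.pull u)
  haveI : Sheaf.IsLocallySurjective u := ASp.isLocallySurjective_of_repWith
    (repWith_mono (fun _ _ m (hm : Etale m) => inferInstanceAs (Flat m)) hue)
    (repWith_mono (fun _ _ m (hm : Etale m) => inferInstanceAs (LocallyOfFinitePresentation m)) hue) hus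
  haveI : Epi u := inferInstance
  obtain ⟨R, r₁, r₂, hR⟩ := exists_isPullback_yon hue.1 u
  have hr₁ : Flat r₁.left := by
    haveI : Etale r₁.left := hue.2 _ _ _ hR.flip
    infer_instance
  obtain ⟨h, hh⟩ := exists_desc_of_epi u hR hU' (by
    have hK : HasUniv (f := f) (((yon S).map r₁ ≫ u) ≫ g) := by
      rw [Category.assoc]
      exact hflat r₁ u hr₁ hu
    have e1 : Good (ψ.pull ((yon S).map r₁ ≫ u)) ((yon S).map r₁ ≫ hU') := good_pull_pull (hgoodU.pull _)
    have e2 : Good (ψ.pull ((yon S).map r₁ ≫ u)) ((yon S).map r₂ ≫ hU') :=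
      good_congr hR.w.symm (good_pull_pull (hgoodU.pull _))
    exact (hK N hN _).unique e1 e2)
  refine ⟨h, fun x p hp => ?_, fun h' hh' => ?_⟩
  · obtain ⟨V, w, v, hwe, hws, hw, -⟩ := exists_etale_cover hue hus p
    obtain ⟨x', m, hx', hm⟩ := Groth.Agent.RepOne.exists_lift_map ‹_› x w
    let q : 𝒳.p.obj x' ⟶ U := eqToHom hx' ≫ v
    have hq : (yon S).map (𝒳.p.map m) ≫ p = (yon S).map q ≫ u := by
      rw [hm, Functor.map_comp, Category.assoc, ← hw]
      simp [q]
    have hp' : ((yon S).map q ≫ u) ≫ g = fsec f x' := by rw [← hq, Category.assoc, hp, fsec_nat]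
    have h1 : (yon S).map q ≫ hU' = ψ.app x' ((yon S).map q ≫ u) hp' :=
      hgoodU x' ((yon S).map q) ((Category.assoc _ _ _).symm.trans hp')
    have h2 := ψ.nat m _ hp' _ hp hq
    haveI : Flat w.left := by haveI := hwe; infer_instance
    haveI : LocallyOfFinitePresentation w.left := by haveI := hwe; infer_instance
    haveI := hws
    haveI := ASp.epi_yon_map w
    have key : (yon S).map (𝒳.p.map m) ≫ p ≫ h = (yon S).map (𝒳.p.map m) ≫ ψ.app x p hp := by
      rw [h2, ← Category.assoc, hq, Category.assoc, hh, h1]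
    rw [hm, Functor.map_comp, Category.assoc, Category.assoc, cancel_epi, cancel_epi] at key
    exact key
  · rw [← cancel_epi u, hh]
    exact huniU _ (hh'.pull u)

end Groth.Agent.UnifModLib
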